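import Groth.Agent.FlatTensBC.Qis
import Groth.Agent.QCoh.FlatOver
import Groth.Agent.CohBC.God

/-!
# Base change of higher direct images tensored with a module flat over the base
-/

set_option backward.isDefEq.respectTransparency false
set_option backward.isDefEq.respectTransparency.types false
set_option linter.style.haveILetI false
set_option autoImplicit false
set_option maxHeartbeats 1600000

universe u

open CategoryTheory CategoryTheory.Limits AlgebraicGeometry TopologicalSpace Opposite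
open scoped TensorProduct

namespace Groth.Agent.FlatTensBC

open Groth.Agent.QCoh Groth.Agent.CohBC

/-- Restricting back and forth between equal opens. -/
theorem res_res_id {Y : Scheme.{u}} (M : Y.Modules) {P Q : Y.Opens} (b : Q ≤ P) (a : P ≤ Q) (x : Γ(M, P)) :
    M.presheaf.map (homOfLE a).op (M.presheaf.map (homOfLE b).op x) = x :=
  (QCoh.map_map (M := M) (homOfLE a) (homOfLE b) x).trans (QCoh.map_id' (M := M) _ x)

variable {X S X' S' : Scheme.{u}} (f : X ⟶ S) (g : S' ⟶ S) (g' : X' ⟶ X) (f' : X' ⟶ S')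
  (sq : IsPullback g' f' f g) {F : X.Modules} (hF : Coh.IsQCoh F) (G : S'.Modules) (n : ℕ)

/-- The comparison map. -/
noncomputable def theta : (tF G).obj ((Scheme.Modules.pullback g).obj (hSh f (godSh F) n)) ⟶
    hSh f' (LM g' f' G F) n :=
  (tF G).map (((Scheme.Modules.pullbackPushforwardAdjunction g).homEquiv _ _).symm
    (αSh (godSquare f g g' f' sq hF) n)) ≫ thetaH f' G ((Scheme.Modules.pullback g').obj F) n

theorem theta_tmS {U : S.Opens} {W : S'.Opens} (hle : W ≤ g ⁻¹ᵁ U) (t : Γ(G, W))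
    (z : (topCx f (godSh F) U).cycles n) (z'' : (topCx f' (LM g' f' G F) W).cycles n)
    (hz : (show Γ((LM g' f' G F).X n, f' ⁻¹ᵁ W) from (topCx f' (LM g' f' G F) W).iCycles n z'') =
      ((LM g' f' G F).X n).presheaf.map (homOfLE ((godSquare f g g' f' sq hF).le_pre hle)).op
        (prodSec f g g' f' sq hF G t n (show Γ((godSh F).X n, f ⁻¹ᵁ U) from (topCx f (godSh F) U).iCycles n z))) :
    (theta f g g' f' sq hF G n).app W (tmS G _ t (pullSec g _ hle
        (show Γ(hSh f (godSh F) n, U) from cls f (godSh F) U n ((topCx f (godSh F) U).homologyπ n z)))) =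
      cls f' (LM g' f' G F) W n ((topCx f' (LM g' f' G F) W).homologyπ n z'') := by
  let D := godSquare f g g' f' sq hF
  let adj := Scheme.Modules.pullbackPushforwardAdjunction g
  let P := hSh f (godSh F) n
  let β : (Scheme.Modules.pullback g).obj P ⟶ hSh f' D.L n := (adj.homEquiv _ _).symm (αSh D n)
  let x : Γ(P, U) := cls f (godSh F) U n ((topCx f (godSh F) U).homologyπ n z)
  have hβ : β.app W (pullSec g P hle x) = secMap g (αSh D n) hle x := by
    have h1 : adj.unit.app _ ≫ (Scheme.Modules.pushforward g).map β = αSh D n :=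
      (adj.homEquiv_unit _ _ β).symm.trans (Equiv.apply_symm_apply _ (αSh D n))
    have h2 : β.app (g ⁻¹ᵁ U) ((adj.unit.app P).app U x) = (αSh D n).app U x := congrArg (fun t => t.app U x) h1
    exact (map_app_comm β (homOfLE hle) _).trans (congrArg _ h2)
  let y : Γ(D.L.X n, f' ⁻¹ᵁ W) :=
    secMap g' (D.ψ.f n) (D.le_pre' hle) (show Γ(D.K.X n, f ⁻¹ᵁ U) from (topCx f D.K U).iCycles n z)
  have hy : (D.L.d n ((ComplexShape.up ℕ).next n)).app (f' ⁻¹ᵁ W) y = 0 := by
    refine (map_app_comm (D.L.d n _) (homOfLE (D.le_pre' hle)) _).trans ?_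
    refine (congrArg _ ((congr(($(D.ψ.comm n ((ComplexShape.up ℕ).next n))).app (f ⁻¹ᵁ U)
      (show Γ(D.K.X n, f ⁻¹ᵁ U) from (topCx f D.K U).iCycles n z))).trans
        ((congrArg ((D.ψ.f _).app (f ⁻¹ᵁ U)) (topCx_iCycles_d f D.K U n z)).trans (map_zero _)))).trans ?_
    exact map_zero _
  let z' : (topCx f' D.L W).cycles n :=
    (topCx f' D.L W).cyclesMk (show (topCx f' D.L W).X n from y) _ rfl hy
  have hz' : (show Γ(D.L.X n, f' ⁻¹ᵁ W) from (topCx f' D.L W).iCycles n z') = y :=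
    (topCx f' D.L W).i_cyclesMk _ _ rfl hy
  show (thetaH f' G _ n).app W (((tF G).map β).app W (tmS G _ t (pullSec g P hle x))) = _
  rw [tF_map_tmS, hβ]
  refine (congrArg (fun w => (thetaH f' G _ n).app W (tmS G _ t w)) (secMap_αSh D hle n z z' hz')).trans ?_
  refine thetaH_cls f' G _ n t z' z'' (hz.trans ?_)
  unfold prodSec
  refine (map_app_comm ((tenGod _ _).f n) (homOfLE (D.le_pre hle)) _).symm.trans ?_
  refine congrArg (((tenGod _ _).f n).app (f' ⁻¹ᵁ W)) ((map_tmS _ _ _ _ _).trans ?_)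
  refine congrArg₂ (tmS _ _) ?_ ?_
  · exact map_secMap f' ((Scheme.Modules.pullbackPushforwardAdjunction f').unit.app G)
      (inf_le_right : pre g' f' (f ⁻¹ᵁ U) W ≤ _) (homOfLE (D.le_pre hle)) t
  · refine (map_secMap g' (D.ψ.f n) (inf_le_left : pre g' f' (f ⁻¹ᵁ U) W ≤ _) (homOfLE (D.le_pre hle))
      (show Γ(D.K.X n, f ⁻¹ᵁ U) from (topCx f D.K U).iCycles n z)).trans ?_
    exact hz'.symm

variable [QuasiCompact f] [QuasiSeparated f]

include sq in
theorem bijective_theta_app (hG : Coh.IsQCoh G) (hGf : FlatMod.IsFlatOver g G) {U : S.Opens}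
    (hU : IsAffineOpen U) {W : S'.Opens} (hW : IsAffineOpen W) (hle : W ≤ g ⁻¹ᵁ U) :
    Function.Bijective ((theta f g g' f' sq hF G n).app W) := by
  haveI : QuasiCompact f' := MorphismProperty.of_isPullback sq inferInstance
  haveI : QuasiSeparated f' := MorphismProperty.of_isPullback sq inferInstance
  letI : Algebra Γ(S, U) Γ(S', W) := (g.appLE U W hle).hom.toAlgebra
  letI : Module Γ(S, U) Γ(G, W) := Module.compHom _ (g.appLE U W hle).hom
  haveI : IsScalarTower Γ(S, U) Γ(S', W) Γ(G, W) := .of_algebraMap_smul fun _ _ => rfl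
  haveI : Module.Flat Γ(S, U) Γ(G, W) := (flat_appLE_iff g hG hW hU hle).2 fun x _ => hGf x
  let D := godSquare f g g' f' sq hF
  let K := godSh F
  let L := LM g' f' G F
  let φ₀ := pairCx f g g' f' sq hF G hle (fun _ => rfl) (le_rfl : f ⁻¹ᵁ U ≤ f ⁻¹ᵁ U)
  haveI : QuasiIso φ₀ := quasiIso_pairCx_top f g g' f' sq hF G hle (fun _ => rfl) hG hU hW
  let r := secCxRes f' (inf_le_right : pre g' f' (f ⁻¹ᵁ U) W ≤ _) (le_rfl : f' ⁻¹ᵁ W ≤ f' ⁻¹ᵁ W) (D.le_pre hle) L
  let r' := secCxRes f' (le_rfl : f' ⁻¹ᵁ W ≤ f' ⁻¹ᵁ W) (inf_le_right : pre g' f' (f ⁻¹ᵁ U) W ≤ _) inf_le_right L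
  haveI : IsIso r := ⟨r', by
      ext i : 1
      exact ModuleCat.hom_ext (LinearMap.ext fun (x : Γ(L.X i, pre g' f' (f ⁻¹ᵁ U) W)) =>
        res_res_id (L.X i) (D.le_pre hle) inf_le_right x), by
      ext i : 1
      exact ModuleCat.hom_ext (LinearMap.ext fun (x : Γ(L.X i, f' ⁻¹ᵁ W)) =>
        res_res_id (L.X i) inf_le_right (D.le_pre hle) x)⟩
  let φ := φ₀ ≫ r
  haveI : QuasiIso φ := inferInstance
  haveI := modFunctor_preservesHomology (A := Γ(S, U)) (B := Γ(S', W)) Γ(G, W)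
  let T := modFunctor (A := Γ(S, U)) (B := Γ(S', W)) Γ(G, W)
  let A := topCx f K U
  let i₁ := ((A.sc n).mapHomologyIso T).symm
  let μ : T.obj (A.homology n) ≅ (topCx f' L W).homology n := i₁ ≪≫ isoOfQuasiIsoAt φ n
  have hμ : ∀ (t : Γ(G, W)) (z : A.cycles n), ∃ z'' : (topCx f' L W).cycles n,
      (show Γ(L.X n, f' ⁻¹ᵁ W) from (topCx f' L W).iCycles n z'') =
        (L.X n).presheaf.map (homOfLE (D.le_pre hle)).op
          (prodSec f g g' f' sq hF G t n (show Γ(K.X n, f ⁻¹ᵁ U) from A.iCycles n z)) ∧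
      μ.hom (show T.obj (A.homology n) from t ⊗ₜ[Γ(S, U)] (show (A.homology n : Type u) from A.homologyπ n z)) =
        (topCx f' L W).homologyπ n z'' := by
    intro t z
    let w : T.obj (A.cycles n) := t ⊗ₜ[Γ(S, U)] (show (A.cycles n : Type u) from z)
    let w' : ((T.mapHomologicalComplex _).obj A).cycles n := ((A.sc n).mapCyclesIso T).inv w
    refine ⟨HomologicalComplex.cyclesMap φ n w', ?_, ?_⟩
    · refine (congr($(HomologicalComplex.cyclesMap_i φ n) w')).trans ?_
      have e : ((A.sc n).mapCyclesIso T).inv ≫ ((A.sc n).map T).iCycles = T.map (A.sc n).iCycles := by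
        rw [Iso.inv_comp_eq]; exact ((A.sc n).mapCyclesIso_hom_iCycles T).symm
      have e' : ((T.mapHomologicalComplex _).obj A).iCycles n w' =
          (t ⊗ₜ[Γ(S, U)] (show (A.X n : Type u) from A.iCycles n z)) := congr($e w)
      show φ.f n (((T.mapHomologicalComplex _).obj A).iCycles n w') = _
      rw [e']
      rfl
    · show HomologicalComplex.homologyMap φ n (i₁.hom _) = _
      have e1 : T.map (A.homologyπ n) ≫ i₁.hom = ((A.sc n).mapCyclesIso T).inv ≫ ((A.sc n).map T).homologyπ := by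
        show T.map (A.sc n).homologyπ ≫ ((A.sc n).mapHomologyIso T).inv = _
        rw [Iso.eq_inv_comp, ← Category.assoc, Iso.comp_inv_eq]
        exact (homologyπ_mapHomologyIso (A.sc n) T).symm
      refine (congrArg (HomologicalComplex.homologyMap φ n) (congr($e1 w))).trans ?_
      exact congr($(HomologicalComplex.homologyπ_naturality φ n) w')
  have hKr := isRes_godSh F
  have hM' := KFlatLib.isQCoh_tensor (isQCoh_pullback f' hG) (isQCoh_pullback g' hF)
  have hLr := isRes_godSh ((tF ((Scheme.Modules.pullback f').obj G)).obj ((Scheme.Modules.pullback g').obj F))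
  let eU : A.homology n ≃ₗ[Γ(S, U)] Γ(hSh f K n, U) :=
    LinearEquiv.ofBijective (cls f K U n).hom (cls_bijective f K U n (locRange_toCycles f hF hKr n) hU)
  let eW : (topCx f' L W).homology n ≃ₗ[Γ(S', W)] Γ(hSh f' L n, W) :=
    LinearEquiv.ofBijective (cls f' L W n).hom (cls_bijective f' L W n (locRange_toCycles f' hM' hLr n) hW)
  let E : Γ(G, W) ⊗[Γ(S, U)] Γ(hSh f K n, U) ≃ₗ[Γ(S', W)] Γ(hSh f' L n, W) :=
    (TensorProduct.AlgebraTensorModule.congr (LinearEquiv.refl Γ(S', W) Γ(G, W)) eU.symm).trans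
      (μ.toLinearEquiv.trans eW)
  let P := hSh f K n
  have hP : Coh.IsQCoh P := isQCoh_hSh D n
  let gP := (Scheme.Modules.pullback g).obj P
  letI : Module Γ(S, U) Γ(gP, W) := Module.compHom _ (g.appLE U W hle).hom
  haveI : IsScalarTower Γ(S, U) Γ(S', W) Γ(gP, W) := .of_algebraMap_smul fun _ _ => rfl
  let l₁ : Γ(P, U) →ₗ[Γ(S, U)] Γ(gP, W) :=
    { toFun := pullSec g P hle
      map_add' := pullSec_add g P hle
      map_smul' := pullSec_smul g P hle }
  have hb₁ : IsBaseChange Γ(S', W) l₁ := isBaseChange_pullback hU g hW hP hle (fun _ => rfl) l₁ fun _ => rfl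
  let τ : Γ(G, W) ⊗[Γ(S', W)] Γ(gP, W) ≃ₗ[Γ(S', W)] Γ((tF G).obj gP, W) :=
    LinearEquiv.ofBijective (tmLin G gP W) (bijective_tmLin hG (isQCoh_pullback g hP) hW)
  let e₀ : Γ(G, W) ⊗[Γ(S, U)] Γ(P, U) ≃ₗ[Γ(S', W)] Γ((tF G).obj gP, W) :=
    ((TensorProduct.AlgebraTensorModule.cancelBaseChange Γ(S, U) Γ(S', W) Γ(S', W) Γ(G, W) Γ(P, U)).symm.trans
      (TensorProduct.congr (LinearEquiv.refl Γ(S', W) Γ(G, W)) hb₁.equiv)).trans τ
  have he₀ : ∀ t x, e₀ (t ⊗ₜ[Γ(S, U)] x) = tmS G gP t (pullSec g P hle x) := fun t x => by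
    show τ ((TensorProduct.congr (LinearEquiv.refl Γ(S', W) Γ(G, W)) hb₁.equiv)
      ((TensorProduct.AlgebraTensorModule.cancelBaseChange Γ(S, U) Γ(S', W) Γ(S', W) Γ(G, W) Γ(P, U)).symm
        (t ⊗ₜ[Γ(S, U)] x))) = _
    simp only [TensorProduct.AlgebraTensorModule.cancelBaseChange_symm_tmul, TensorProduct.congr_tmul,
      LinearEquiv.refl_apply, IsBaseChange.equiv_tmul, one_smul]
    rfl
  have key : ∀ v, (theta f g g' f' sq hF G n).app W (e₀ v) = E v := by
    intro v
    induction v using TensorProduct.induction_on with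
    | zero =>
      rw [map_zero, map_zero, map_zero]
    | add a b ha hb =>
      rw [map_add, map_add, map_add, ha, hb]
    | tmul t x =>
      obtain ⟨q, rfl⟩ := eU.surjective x
      obtain ⟨z, rfl⟩ := topCx_homologyπ_surjective f K U n q
      obtain ⟨z'', hz'', hμz⟩ := hμ t z
      rw [he₀]
      refine (theta_tmS f g g' f' sq hF G n hle t z z'' hz'').trans ?_
      show _ = eW (μ.toLinearEquiv (t ⊗ₜ[Γ(S, U)] eU.symm (eU _)))
      rw [LinearEquiv.symm_apply_apply]
      exact congrArg eW hμz.symm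
  have : ((theta f g g' f' sq hF G n).app W).hom ∘ e₀ = E := funext key
  exact (Function.Bijective.of_comp_iff _ e₀.bijective).1 (this ▸ E.bijective)

include sq hF in
/-- Base change with a flat module. -/
theorem nonempty_tensor_baseChange_Rpush [HasInjectiveResolutions X.Modules] [HasInjectiveResolutions X'.Modules]
    (hG : Coh.IsQCoh G) (hGf : FlatMod.IsFlatOver g G) :
    Nonempty ((tF G).obj ((Scheme.Modules.pullback g).obj ((Coh.Rpush f n).obj F)) ≅
      (Coh.Rpush f' n).obj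
        ((tF ((Scheme.Modules.pullback f').obj G)).obj ((Scheme.Modules.pullback g').obj F))) := by
  haveI : QuasiCompact f' := MorphismProperty.of_isPullback sq inferInstance
  haveI : QuasiSeparated f' := MorphismProperty.of_isPullback sq inferInstance
  haveI : IsIso (theta f g g' f' sq hF G n) := by
    refine isIso_of_isBasis _
      (B := {W | IsAffineOpen W ∧ ∃ U : S.Opens, IsAffineOpen U ∧ W ≤ g ⁻¹ᵁ U}) ?_ ?_
    · refine TopologicalSpace.Opens.isBasis_iff_nbhd.2 fun {V} x hx => ?_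
      obtain ⟨_, ⟨U, hU, rfl⟩, hxU, -⟩ :=
        S.isBasis_affineOpens.exists_subset_of_mem_open (Set.mem_univ (g x)) isOpen_univ
      obtain ⟨_, ⟨W, hW, rfl⟩, hxW, hWle⟩ := S'.isBasis_affineOpens.exists_subset_of_mem_open
        (show x ∈ V ⊓ g ⁻¹ᵁ U from ⟨hx, hxU⟩) (V ⊓ g ⁻¹ᵁ U).isOpen
      exact ⟨W, ⟨hW, U, hU, fun y hy => (hWle hy).2⟩, hxW, fun y hy => (hWle hy).1⟩
    · rintro W ⟨hW, U, hU, hle⟩
      exact bijective_theta_app f g g' f' sq hF G n hG hGf hU hW hle
  obtain ⟨e⟩ := nonempty_hSh_iso_Rpush f hF (isRes_godSh F) n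
  obtain ⟨e'⟩ := nonempty_hSh_iso_Rpush f'
    (KFlatLib.isQCoh_tensor (isQCoh_pullback f' hG) (isQCoh_pullback g' hF))
    (isRes_godSh ((tF ((Scheme.Modules.pullback f').obj G)).obj ((Scheme.Modules.pullback g').obj F))) n
  exact ⟨(tF G).mapIso ((Scheme.Modules.pullback g).mapIso e.symm) ≪≫
    asIso (theta f g g' f' sq hF G n) ≪≫ e'⟩

end Groth.Agent.FlatTensBC
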