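import Groth.Agent.KFlatLib.Scheme.PullTensorCx
import Groth.Agent.KFlatLib.Scheme.Tensor
import Groth.Agent.QCoh.TensorSections
import Groth.Agent.QCoh.GodCx
import Groth.Agent.CohBC.God

/-!
# Tensoring the Godement resolution by a module
-/

set_option backward.isDefEq.respectTransparency false
set_option backward.isDefEq.respectTransparency.types false
set_option linter.style.haveILetI false
set_option autoImplicit false

universe u

open CategoryTheory CategoryTheory.Limits AlgebraicGeometry TopologicalSpace Opposite MonoidalCategory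
open scoped TensorProduct

namespace Groth.Agent.FlatTensBC

open Groth.Agent.QCoh Groth.Agent.KFlatLib Groth.Agent.CohBC

variable {X : Scheme.{u}}

/-- Tensoring on the left. -/
noncomputable abbrev tF (G : X.Modules) : X.Modules ⥤ X.Modules := DCoh.tensorBi.obj G

/-- A natural bilinear map of sections, as a map of presheaves. -/
noncomputable def tensPre {G N P : X.Modules} (b : ∀ U : X.Opens, Γ(G, U) → Γ(N, U) → Γ(P, U))
    (h₁ : ∀ (U : X.Opens) s s' t, b U (s + s') t = b U s t + b U s' t)
    (h₂ : ∀ (U : X.Opens) (r : Γ(X, U)) s t, b U (r • s) t = r • b U s t)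
    (h₃ : ∀ (U : X.Opens) s t t', b U s (t + t') = b U s t + b U s t')
    (h₄ : ∀ (U : X.Opens) (r : Γ(X, U)) s t, b U s (r • t) = r • b U s t)
    (hn : ∀ (U V : X.Opens) (i : V ⟶ U) s t,
      b V (G.presheaf.map i.op s) (N.presheaf.map i.op t) = P.presheaf.map i.op (b U s t)) :
    DCoh.toP.obj G ⊗ DCoh.toP.obj N ⟶ DCoh.toP.obj P where
  app U := ModuleCat.MonoidalCategory.tensorLift
    (fun s t => b U.unop s t) (h₁ U.unop) (h₂ U.unop) (h₃ U.unop) (h₄ U.unop)
  naturality {U V} i := ModuleCat.MonoidalCategory.tensor_ext fun s t => hn U.unop V.unop i.unop s t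

/-- A map out of a tensor product from a natural bilinear map of sections. -/
noncomputable def tensLift {G N P : X.Modules} (b : ∀ U : X.Opens, Γ(G, U) → Γ(N, U) → Γ(P, U))
    (h₁ : ∀ (U : X.Opens) s s' t, b U (s + s') t = b U s t + b U s' t)
    (h₂ : ∀ (U : X.Opens) (r : Γ(X, U)) s t, b U (r • s) t = r • b U s t)
    (h₃ : ∀ (U : X.Opens) s t t', b U s (t + t') = b U s t + b U s t')
    (h₄ : ∀ (U : X.Opens) (r : Γ(X, U)) s t, b U s (r • t) = r • b U s t)
    (hn : ∀ (U V : X.Opens) (i : V ⟶ U) s t,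
      b V (G.presheaf.map i.op s) (N.presheaf.map i.op t) = P.presheaf.map i.op (b U s t)) :
    (tF G).obj N ⟶ P :=
  ((PresheafOfModules.sheafificationAdjunction (𝟙 X.ringCatSheaf.obj)).homEquiv _ _).symm
    (tensPre b h₁ h₂ h₃ h₄ hn)

theorem tensLift_tmS {G N P : X.Modules} (b : ∀ U : X.Opens, Γ(G, U) → Γ(N, U) → Γ(P, U))
    (h₁ : ∀ (U : X.Opens) s s' t, b U (s + s') t = b U s t + b U s' t)
    (h₂ : ∀ (U : X.Opens) (r : Γ(X, U)) s t, b U (r • s) t = r • b U s t)
    (h₃ : ∀ (U : X.Opens) s t t', b U s (t + t') = b U s t + b U s t')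
    (h₄ : ∀ (U : X.Opens) (r : Γ(X, U)) s t, b U s (r • t) = r • b U s t)
    (hn : ∀ (U V : X.Opens) (i : V ⟶ U) s t,
      b V (G.presheaf.map i.op s) (N.presheaf.map i.op t) = P.presheaf.map i.op (b U s t))
    {U : X.Opens} (s : Γ(G, U)) (t : Γ(N, U)) :
    (tensLift b h₁ h₂ h₃ h₄ hn).app U (tmS G N s t) = b U s t := by
  have h := ((PresheafOfModules.sheafificationAdjunction (𝟙 X.ringCatSheaf.obj)).homEquiv _
    _).apply_symm_apply (tensPre b h₁ h₂ h₃ h₄ hn)
  exact congrArg (fun g : DCoh.toP.obj G ⊗ DCoh.toP.obj N ⟶ _ => g.app (op U) (tm s t)) h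

/-- Maps out of a tensor product are determined by their values on tensors of sections. -/
theorem hom_ext_tmS {G N P : X.Modules} {g h : (tF G).obj N ⟶ P}
    (e : ∀ (U : X.Opens) (s : Γ(G, U)) (t : Γ(N, U)), g.app U (tmS G N s t) = h.app U (tmS G N s t)) :
    g = h := by
  apply ((PresheafOfModules.sheafificationAdjunction (𝟙 X.ringCatSheaf.obj)).homEquiv
    (MonoidalCategoryStruct.tensorObj (C := CohB1.PMod X) (DCoh.toP.obj G) (DCoh.toP.obj N)) P).injective
  exact PresheafOfModules.hom_ext fun U => ModuleCat.MonoidalCategory.tensor_ext fun s t => e U.unop s t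

theorem tF_map_tmS (G : X.Modules) {N N' : X.Modules} (φ : N ⟶ N') {U : X.Opens} (s : Γ(G, U)) (t : Γ(N, U)) :
    ((tF G).map φ).app U (tmS G N s t) = tmS G N' s (φ.app U t) :=
  KFlatLib.tmSh_naturality_right G φ s t

theorem tmS_zero_right (G N : X.Modules) {U : X.Opens} (s : Γ(G, U)) : tmS G N s 0 = 0 :=
  map_zero (AddMonoidHom.mk' (fun t : Γ(N, U) => tmS G N s t) (tmS_add_right G N s))

variable {G : X.Modules} {Q Q' : X.Modules}

/-- The pairing of stalks. -/
noncomputable def stkTen (η : (tF G).obj Q ⟶ Q') (x : X) (a : stk G x) (m : stk Q x) : stk Q' x :=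
  (DerSch.stalkFunctor X x).map η ((stalkTensorIso x G Q).hom (a ⊗ₜ[X.presheaf.stalk x] m))

theorem stkTen_germ (η : (tF G).obj Q ⟶ Q') {U : X.Opens} {x : X} (hx : x ∈ U) (s : Γ(G, U)) (t : Γ(Q, U)) :
    stkTen η x (germM G U hx s) (germM Q U hx t) = germM Q' U hx (η.app U (tmS G Q s t)) :=
  (congrArg ((DerSch.stalkFunctor X x).map η) (stalkTensorIso_gm G Q U hx s t)).trans
    (stalk_map_gm η U hx _)

/-- The product of a section and a family of germs. -/
noncomputable def godTen (η : (tF G).obj Q ⟶ Q') : (tF G).obj (God Q) ⟶ God Q' :=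
  tensLift
    (fun U u s => (show Γ(God Q', U) from
      (fun x => stkTen η x.1 (germM G U x.2 u) (godVal s x.1 x.2) : ∀ x : U, stk Q' x.1)))
    (fun U u u' s => funext fun x => by
      show stkTen η x.1 (germM G U x.2 (u + u')) _ =
        stkTen η x.1 (germM G U x.2 u) _ + stkTen η x.1 (germM G U x.2 u') _
      unfold stkTen
      rw [map_add, TensorProduct.add_tmul, map_add, map_add])
    (fun U r u s => funext fun x => by
      show stkTen η x.1 (germM G U x.2 (r • u)) _ =
        X.presheaf.germ U x.1 x.2 r • stkTen η x.1 (germM G U x.2 u) _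
      unfold stkTen
      rw [germM_smul, ← TensorProduct.smul_tmul', map_smul, map_smul])
    (fun U u s s' => funext fun x => by
      show stkTen η x.1 _ (godVal s x.1 x.2 + godVal s' x.1 x.2) = stkTen η x.1 _ _ + stkTen η x.1 _ _
      unfold stkTen
      rw [TensorProduct.tmul_add, map_add, map_add])
    (fun U r u s => funext fun x => by
      show stkTen η x.1 _ (X.presheaf.germ U x.1 x.2 r • godVal s x.1 x.2) =
        X.presheaf.germ U x.1 x.2 r • stkTen η x.1 _ _
      unfold stkTen
      rw [TensorProduct.tmul_smul, map_smul, map_smul])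
    (fun U V i u s => funext fun x => by
      show stkTen η x.1 (germM G V x.2 _) _ = stkTen η x.1 (germM G U (i.le x.2) u) _
      rw [germM_res]
      rfl)

theorem toGod_godTen (η : (tF G).obj Q ⟶ Q') :
    (tF G).map (toGod Q) ≫ godTen η = η ≫ toGod Q' :=
  hom_ext_tmS fun U u t => by
    refine (congrArg ((godTen η).app U) (tF_map_tmS G (toGod Q) u t)).trans ?_
    refine (tensLift_tmS _ _ _ _ _ _ u _).trans ?_
    exact funext fun x => stkTen_germ η x.2 u t

variable (G) (N : X.Modules)

/-- Tensoring the cokernels of the Godement resolution. -/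
noncomputable def tenQ : ∀ n, (tF G).obj (godQ N n) ⟶ godQ ((tF G).obj N) n
  | 0 => 𝟙 _
  | n + 1 => (PreservesCokernel.iso (tF G) (toGod (godQ N n))).hom ≫
      cokernel.desc ((tF G).map (toGod (godQ N n))) (godTen (tenQ n) ≫ godπ ((tF G).obj N) n)
        (by rw [← Category.assoc, toGod_godTen, Category.assoc, toGod_godπ, comp_zero])

theorem godπ_tenQ (n : ℕ) :
    (tF G).map (godπ N n) ≫ tenQ G N (n + 1) = godTen (tenQ G N n) ≫ godπ ((tF G).obj N) n := by
  refine (Category.assoc _ _ _).symm.trans ?_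
  refine (congrArg (· ≫ _) (PreservesCokernel.π_iso_hom (tF G) (toGod (godQ N n)))).trans ?_
  exact cokernel.π_desc _ _ _

/-- Tensoring the Godement resolution. -/
noncomputable def tenGod : ((tF G).mapHomologicalComplex (ComplexShape.up ℕ)).obj (godSh N) ⟶
    godSh ((tF G).obj N) where
  f n := godTen (tenQ G N n)
  comm' p q hpq := by
    obtain rfl : p + 1 = q := hpq
    show godTen (tenQ G N p) ≫ (godSh ((tF G).obj N)).d p (p + 1) =
      (tF G).map ((godSh N).d p (p + 1)) ≫ godTen (tenQ G N (p + 1))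
    rw [godSh_d, godSh_d, Functor.map_comp, Category.assoc, toGod_godTen, ← Category.assoc, ← Category.assoc,
      godπ_tenQ]

theorem toGod_tenGod : (tF G).map (toGod N) ≫ (tenGod G N).f 0 = toGod ((tF G).obj N) :=
  (toGod_godTen (tenQ G N 0)).trans (Category.id_comp _)

theorem tenGod_d {U : X.Opens} (u : Γ(G, U)) (p q : ℕ) (x : Γ((godSh N).X p, U)) :
    ((godSh ((tF G).obj N)).d p q).app U (((tenGod G N).f p).app U (tmS G _ u x)) =
      ((tenGod G N).f q).app U (tmS G _ u (((godSh N).d p q).app U x)) := by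
  refine Eq.trans ?_ (congrArg (((tenGod G N).f q).app U) (tF_map_tmS G ((godSh N).d p q) u x))
  exact congr(($((tenGod G N).comm p q)).app U (tmS G _ u x))

end Groth.Agent.FlatTensBC
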